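import Mathlib

/-!
# Maps into coskeletal simplicial sets
-/

set_option autoImplicit false
set_option backward.isDefEq.respectTransparency false

universe u

open CategoryTheory Opposite Simplicial MonoidalCategory CartesianMonoidalCategory SimplexCategory

namespace Groth.Agent.CoskHtpy

theorem id_or_factor {n a b : ℕ} (ha : a ≤ n) (hb : b ≤ n) (φ : ⦋b⦌ ⟶ ⦋a⦌) :
    (a = n ∧ b = n ∧ b = a ∧ HEq φ (𝟙 (⦋b⦌ : SimplexCategory))) ∨
      ∃ c, c < n ∧ ∃ (φ₁ : ⦋b⦌ ⟶ ⦋c⦌) (φ₂ : ⦋c⦌ ⟶ ⦋a⦌), φ = φ₁ ≫ φ₂ := by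
  by_cases hs : Function.Surjective φ.toOrderHom
  · by_cases hi : Function.Injective φ.toOrderHom
    · haveI : Mono φ := SimplexCategory.mono_iff_injective.2 hi
      haveI : Epi φ := SimplexCategory.epi_iff_surjective.2 hs
      obtain rfl : b = a := le_antisymm (SimplexCategory.le_of_mono φ) (SimplexCategory.le_of_epi φ)
      by_cases h : b = n
      · exact Or.inl ⟨h, h, rfl, heq_of_eq (SimplexCategory.eq_id_of_mono φ)⟩
      · exact Or.inr ⟨b, by omega, 𝟙 _, φ, (Category.id_comp φ).symm⟩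
    · rcases b with _ | b
      · exact absurd (fun x y _ => @Subsingleton.elim (Fin 1) _ x y) hi
      · obtain ⟨i, θ, hθ⟩ := SimplexCategory.eq_σ_comp_of_not_injective φ hi
        exact Or.inr ⟨b, by omega, SimplexCategory.σ i, θ, hθ⟩
  · rcases a with _ | a
    · exact absurd (fun y => ⟨0, @Subsingleton.elim (Fin 1) _ _ y⟩) hs
    · obtain ⟨i, θ, hθ⟩ := SimplexCategory.eq_comp_δ_of_not_surjective φ hs
      exact Or.inr ⟨a, by omega, θ, SimplexCategory.δ i, hθ⟩

variable {U V : SSet.{u}} (f₀ f₁ : V ⟶ U) (n : ℕ)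

open Classical in
/-- The homotopy on simplices of dimension at most `n`. -/
noncomputable def trunc
    (h : ∀ i : ℕ, i < n → f₀.app (op ⦋i⦌) = f₁.app (op ⦋i⦌)) :
    (SimplexCategory.Truncated.inclusion n).op ⋙ (V ⊗ Δ[1] : SSet.{u}) ⟶
      (SimplexCategory.Truncated.inclusion n).op ⋙ U where
  app a := ↾fun z : (V ⊗ Δ[1] : SSet.{u}).obj (op a.unop.obj) =>
    if z.2 = SSet.stdSimplex.const 1 1 (op a.unop.obj) then f₁.app (op a.unop.obj) z.1
    else f₀.app (op a.unop.obj) z.1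
  naturality {a b} g := by
    apply ConcreteCategory.hom_ext
    intro z
    change (V ⊗ Δ[1] : SSet.{u}).obj (op a.unop.obj) at z
    obtain ⟨⟨A, hA⟩⟩ := a
    obtain ⟨⟨B, hB⟩⟩ := b
    obtain ⟨a⟩ := A
    obtain ⟨b⟩ := B
    obtain ⟨⟨φ⟩⟩ := g
    change ⦋b⦌ ⟶ ⦋a⦌ at φ
    show (if ((V ⊗ Δ[1] : SSet.{u}).map φ.op z).2 = _ then f₁.app _ ((V ⊗ Δ[1] : SSet.{u}).map φ.op z).1
        else f₀.app _ ((V ⊗ Δ[1] : SSet.{u}).map φ.op z).1) =
      U.map φ.op (if z.2 = _ then f₁.app _ z.1 else f₀.app _ z.1)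
    have e1 : ((V ⊗ Δ[1] : SSet.{u}).map φ.op z).1 = V.map φ.op z.1 := rfl
    have e2 : ((V ⊗ Δ[1] : SSet.{u}).map φ.op z).2 = (Δ[1] : SSet.{u}).map φ.op z.2 := rfl
    rw [e1, e2]
    rcases id_or_factor hA hB φ with ⟨-, -, hba, hφ⟩ | ⟨c, hc, φ₁, φ₂, rfl⟩
    · subst hba
      obtain rfl := eq_of_heq hφ
      simp
    · have key : f₀.app _ (V.map (φ₁ ≫ φ₂).op z.1) = f₁.app _ (V.map (φ₁ ≫ φ₂).op z.1) := by
        rw [op_comp, Functor.map_comp, ConcreteCategory.comp_apply]
        exact (NatTrans.naturality_apply f₀ φ₁.op _).trans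
          ((congrArg (U.map φ₁.op) (ConcreteCategory.congr_hom (h c hc) _)).trans
            (NatTrans.naturality_apply f₁ φ₁.op _).symm)
      have n0 := NatTrans.naturality_apply f₀ (φ₁ ≫ φ₂).op z.1
      have n1 := NatTrans.naturality_apply f₁ (φ₁ ≫ φ₂).op z.1
      split_ifs with p q q
      · exact n1
      · exact key.symm.trans n0
      · exact key.trans n1
      · exact n0

theorem nonempty_homotopy (h : ∀ i : ℕ, i < n → f₀.app (op ⦋i⦌) = f₁.app (op ⦋i⦌))
    [SimplicialObject.IsCoskeletal U n] : Nonempty (SSet.Homotopy f₀ f₁) := by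
  let H : (V ⊗ Δ[1] : SSet.{u}) ⟶ U :=
    Functor.liftOfIsRightKanExtension U (𝟙 ((SimplexCategory.Truncated.inclusion n).op ⋙ _)) (V ⊗ Δ[1] : SSet.{u}) (trunc f₀ f₁ n h)
  have hH : ∀ (a : (SimplexCategory.Truncated n)ᵒᵖ) (z : (V ⊗ Δ[1] : SSet.{u}).obj (op a.unop.obj)),
      H.app (op a.unop.obj) z = (trunc f₀ f₁ n h).app a z := fun a z =>
    ConcreteCategory.congr_hom
      (Functor.liftOfIsRightKanExtension_fac_app U (𝟙 ((SimplexCategory.Truncated.inclusion n).op ⋙ _)) (V ⊗ Δ[1] : SSet.{u}) (trunc f₀ f₁ n h) a) z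
  refine ⟨{ h := H, h₀ := ?_, h₁ := ?_, rel := ?_ }⟩
  · refine Functor.hom_ext_of_isRightKanExtension U (𝟙 ((SimplexCategory.Truncated.inclusion n).op ⋙ _)) _ _ ?_
    apply NatTrans.ext
    funext a
    apply ConcreteCategory.hom_ext
    intro x
    refine (hH a (SSet.ι₀.app _ x)).trans ?_
    refine (if_neg ?_)
    intro h0
    have := congrArg (fun z : (Δ[1] : SSet.{u}).obj (op a.unop.obj) => z.down.toOrderHom 0) h0
    exact (show (0 : Fin 2) ≠ 1 by decide) this
  · refine Functor.hom_ext_of_isRightKanExtension U (𝟙 ((SimplexCategory.Truncated.inclusion n).op ⋙ _)) _ _ ?_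
    apply NatTrans.ext
    funext a
    apply ConcreteCategory.hom_ext
    intro x
    refine (hH a (SSet.ι₁.app _ x)).trans ?_
    exact if_pos rfl
  · apply NatTrans.ext
    ext m z
    exact z.1.2.elim

/-- Extension of a map into a coskeletal simplicial set over the boundary of a simplex of higher dimension. -/
theorem rlp (f : V ⟶ U) (h1 : ∀ i : ℕ, i < n → Function.Bijective (f.app (op ⦋i⦌)))
    (h2 : Function.Surjective (f.app (op ⦋n⦌))) [SimplicialObject.IsCoskeletal U n]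
    [SimplicialObject.IsCoskeletal V n] : SSet.modelCategoryQuillen.I.rlp f := by
  rintro _ _ _ ⟨m⟩
  refine ⟨fun {t b} sq => ?_⟩
  by_cases hm : m ≤ n
  · obtain ⟨v, hv⟩ : ∃ v, f.app (op ⦋m⦌) v = SSet.yonedaEquiv b := by
      rcases hm.eq_or_lt with rfl | hlt
      · exact h2 _
      · exact (h1 m hlt).2 _
    let L : Δ[m] ⟶ V := SSet.yonedaEquiv.symm v
    have hLf : L ≫ f = b := by
      apply SSet.yonedaEquiv.injective
      rw [SSet.yonedaEquiv_comp]
      simp [L, hv]
    refine CommSq.HasLift.mk' ⟨L, ?_, hLf⟩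
    rcases m with _ | k
    · exact SSet.boundary.hom_ext₀
    · refine SSet.boundary.hom_ext fun i => SSet.yonedaEquiv.injective ((h1 k (by omega)).1 ?_)
      rw [← SSet.yonedaEquiv_comp, ← SSet.yonedaEquiv_comp, Category.assoc, Category.assoc, Category.assoc,
        hLf, sq.w]
  · let β : (SimplexCategory.Truncated.inclusion n).op ⋙ (Δ[m] : SSet.{u}) ⟶
        (SimplexCategory.Truncated.inclusion n).op ⋙ V :=
      { app := fun a => ↾fun y : (Δ[m] : SSet.{u}).obj (op a.unop.obj) => t.app (op a.unop.obj) ⟨y, by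
          have h := SSet.boundary_obj_eq_univ.{u} a.unop.obj.len m (by have := a.unop.property; omega)
          exact (Set.eq_univ_iff_forall.1 h) y⟩
        naturality := fun a c g => by
          apply ConcreteCategory.hom_ext
          intro y
          show t.app (op c.unop.obj) ⟨(Δ[m] : SSet.{u}).map ((SimplexCategory.Truncated.inclusion n).op.map g) y, _⟩ =
            V.map ((SimplexCategory.Truncated.inclusion n).op.map g) (t.app (op a.unop.obj) ⟨y, _⟩)
          exact NatTrans.naturality_apply t ((SimplexCategory.Truncated.inclusion n).op.map g) (⟨y, _⟩ : (∂Δ[m] : SSet.{u}).obj _) }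
    let L : Δ[m] ⟶ V := Functor.liftOfIsRightKanExtension V (𝟙 ((SimplexCategory.Truncated.inclusion n).op ⋙ _)) (Δ[m] : SSet.{u}) β
    have hL : ∀ (a : (SimplexCategory.Truncated n)ᵒᵖ) (y : (Δ[m] : SSet.{u}).obj (op a.unop.obj)),
        L.app (op a.unop.obj) y = β.app a y := fun a y =>
      ConcreteCategory.congr_hom (Functor.liftOfIsRightKanExtension_fac_app V (𝟙 ((SimplexCategory.Truncated.inclusion n).op ⋙ _)) (Δ[m] : SSet.{u}) β a) y
    refine CommSq.HasLift.mk' ⟨L, ?_, ?_⟩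
    · refine Functor.hom_ext_of_isRightKanExtension V (𝟙 ((SimplexCategory.Truncated.inclusion n).op ⋙ _)) _ _ ?_
      apply NatTrans.ext
      funext a
      apply ConcreteCategory.hom_ext
      intro x
      exact hL a x.1
    · refine Functor.hom_ext_of_isRightKanExtension U (𝟙 ((SimplexCategory.Truncated.inclusion n).op ⋙ _)) _ _ ?_
      apply NatTrans.ext
      funext a
      apply ConcreteCategory.hom_ext
      intro y
      refine (congrArg (f.app (op a.unop.obj)) (hL a y)).trans ?_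
      exact ConcreteCategory.congr_hom (NatTrans.congr_app sq.w (op a.unop.obj)) _

end Groth.Agent.CoskHtpy
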